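import Groth.Agent.CycLib.ModCut
import Groth.Agent.CycLib.ModStalk
import Groth.Agent.CycLib.SheafSpec
import Groth.Agent.CycLib.SchemeDim
import Groth.Agent.CycLib.DimFormula
import Groth.Agent.CycLib.FibreDim
import Groth.Agent.CycLib.FlatDecomp
import Groth.Agent.FlatMor.FibreStalk
import Groth.Agent.FibCodepth.SkNhd
import Groth.Agent.FDesc.Stalk
import Mathlib.RingTheory.Flat.TorsionFree

/-!
Specialisation of the cycle of a module flat over a discrete valuation ring.
-/

set_option autoImplicit false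
set_option linter.style.haveILetI false
set_option maxHeartbeats 1600000

universe u

open CategoryTheory Limits AlgebraicGeometry IsLocalRing TopologicalSpace
open scoped TensorProduct

namespace Groth.Agent.SpFlat88

open Groth.Agent Groth.Agent.CycLib Groth.Agent.PullStalk.Sky

section Preimm

variable {X Y : Scheme.{u}} (M : X.Modules) (s : Y ⟶ X) [IsPreimmersion s]

/-- The stalk of a pull-back along a preimmersion. -/
theorem exists_pullback_stalk_equiv (y : Y) :
    Nonempty (((Scheme.Modules.pullback s).obj M).presheaf.stalk y ≃+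
        (M.presheaf.stalk (s y) ⧸
          RingHom.ker (s.stalkMap y).hom • (⊤ : Submodule (X.presheaf.stalk (s y)) (M.presheaf.stalk (s y))))) ∧
      Module.length (Y.presheaf.stalk y) (((Scheme.Modules.pullback s).obj M).presheaf.stalk y) =
        Module.length (X.presheaf.stalk (s y)) (M.presheaf.stalk (s y) ⧸
          RingHom.ker (s.stalkMap y).hom • (⊤ : Submodule (X.presheaf.stalk (s y)) (M.presheaf.stalk (s y)))) := by
  letI := (s.stalkMap y).hom.toAlgebra
  obtain ⟨e, -⟩ := FDesc.Stalk.exists_stalk_equiv s M y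
  have hs : Function.Surjective (algebraMap (X.presheaf.stalk (s y)) (Y.presheaf.stalk y)) := s.stalkMap_surjective y
  let e1 : Y.presheaf.stalk y ⊗[X.presheaf.stalk (s y)] M.presheaf.stalk (s y) ≃ₗ[X.presheaf.stalk (s y)]
      (X.presheaf.stalk (s y) ⧸ RingHom.ker (s.stalkMap y).hom) ⊗[X.presheaf.stalk (s y)] M.presheaf.stalk (s y) :=
    TensorProduct.congr
      (Ideal.quotientKerAlgEquivOfSurjective (f := Algebra.ofId (X.presheaf.stalk (s y)) (Y.presheaf.stalk y)) hs).toLinearEquiv.symm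
      (LinearEquiv.refl _ _)
  let e2 := e1.trans (TensorProduct.quotTensorEquivQuotSMul (M.presheaf.stalk (s y)) (RingHom.ker (s.stalkMap y).hom))
  refine ⟨⟨e.symm.toAddEquiv.trans e2.toAddEquiv⟩, ?_⟩
  rw [← e.length_eq, ← e2.length_eq]
  exact (Module.length_eq_of_surjective hs).symm

theorem nontrivial_of_nontrivial_pullback_stalk (y : Y)
    (h : Nontrivial (((Scheme.Modules.pullback s).obj M).presheaf.stalk y)) :
    Nontrivial (M.presheaf.stalk (s y)) := by
  obtain ⟨⟨e⟩, -⟩ := exists_pullback_stalk_equiv M s y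
  by_contra hn
  rw [not_nontrivial_iff_subsingleton] at hn
  exact not_nontrivial _ (e.toEquiv.nontrivial_congr.1 h)

theorem nontrivial_pullback_stalk (y : Y)
    [Module.Finite (X.presheaf.stalk (s y)) (M.presheaf.stalk (s y))]
    (h : Nontrivial (M.presheaf.stalk (s y))) :
    Nontrivial (((Scheme.Modules.pullback s).obj M).presheaf.stalk y) := by
  obtain ⟨⟨e⟩, -⟩ := exists_pullback_stalk_equiv M s y
  rw [e.toEquiv.nontrivial_congr, Submodule.Quotient.nontrivial_iff]
  intro htop
  have h1 := Submodule.eq_bot_of_le_smul_of_le_jacobson_bot (RingHom.ker (s.stalkMap y).hom)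
    (⊤ : Submodule (X.presheaf.stalk (s y)) (M.presheaf.stalk (s y))) Module.Finite.fg_top htop.ge
    ((IsLocalRing.le_maximalIdeal (RingHom.ker_ne_top _)).trans (IsLocalRing.maximalIdeal_le_jacobson _))
  exact not_subsingleton (M.presheaf.stalk (s y)) (Submodule.subsingleton_iff _ |>.1
    (subsingleton_of_bot_eq_top h1.symm))

end Preimm

variable {R : Type u} [CommRing R] [IsDomain R] [IsDiscreteValuationRing R]


theorem generic_asIdeal : ((genericPoint ↥(Spec (CommRingCat.of R))) : PrimeSpectrum R).asIdeal = ⊥ := by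
  rw [genericPoint_eq_bot_of_affine]
  rfl

theorem eq_or_eq (p : ↥(Spec (CommRingCat.of R))) : p = (genericPoint ↥(Spec (CommRingCat.of R))) ∨ p = (IsLocalRing.closedPoint R) := by
  by_cases h : (p : PrimeSpectrum R).asIdeal = ⊥
  · exact Or.inl (PrimeSpectrum.ext (h.trans generic_asIdeal.symm))
  · exact Or.inr (PrimeSpectrum.ext
      (IsLocalRing.eq_maximalIdeal ((p : PrimeSpectrum R).2.isMaximal h)))

theorem generic_ne_closed : ((genericPoint ↥(Spec (CommRingCat.of R))) : ↥(Spec (CommRingCat.of R))) ≠ (IsLocalRing.closedPoint R) := fun h =>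
  IsDiscreteValuationRing.not_a_field R ((congrArg PrimeSpectrum.asIdeal h).symm.trans generic_asIdeal)

open Classical in
/-- The dimension function of the trait. -/
noncomputable def dTrait (p : ↥(Spec (CommRingCat.of R))) : ℤ := if p = (IsLocalRing.closedPoint R) then 0 else 1

theorem isDimFun_dTrait : Cyc.IsDimFun (Spec (CommRingCat.of R)) (dTrait (R := R)) := by
  intro x y hxy hne
  have hy : y = ((IsLocalRing.closedPoint R) : ↥(Spec (CommRingCat.of R))) := by
    rcases eq_or_eq y with h | h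
    · refine absurd ?_ hne
      have h1 : x ⤳ y := hxy
      have h2 : (PrimeSpectrum.asIdeal (x : PrimeSpectrum R)) ≤ PrimeSpectrum.asIdeal (y : PrimeSpectrum R) :=
        (PrimeSpectrum.le_iff_specializes _ _).2 h1
      subst h
      rw [generic_asIdeal] at h2
      exact PrimeSpectrum.ext ((le_bot_iff.1 h2).trans generic_asIdeal.symm)
    · exact h
  subst hy
  simp only [dTrait, if_neg hne, if_pos]
  exact ⟨by norm_num, fun _ => by norm_num⟩

theorem catenary_stalk (p : ↥(Spec (CommRingCat.of R))) : CAlg.IsUniversallyCatenary ((Spec (CommRingCat.of R)).presheaf.stalk p) := by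
  haveI : IsRegularLocalRing (Localization.AtPrime (p : PrimeSpectrum R).asIdeal) :=
    IsRegularRing.isRegularLocalRing_localization _
  haveI : IsRegularLocalRing ((Spec (CommRingCat.of R)).presheaf.stalk p) :=
    IsRegularLocalRing.of_ringEquiv (Spec.stalkIso (CommRingCat.of R) p).commRingCatIsoToRingEquiv.symm
  haveI := Depth.isCohenMacaulayLocalRing_of_isRegularLocalRing (R := (Spec (CommRingCat.of R)).presheaf.stalk p)
  haveI : LocCoh.IsCohenMacaulayRing ((Spec (CommRingCat.of R)).presheaf.stalk p) :=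
    Depth.isCohenMacaulayRing_of_isCohenMacaulayLocalRing
  exact S0603.result _

theorem exists_uniformizer : ∃ ϖ : R, ϖ ≠ 0 ∧ maximalIdeal R = Ideal.span {ϖ} := by
  obtain ⟨ϖ, hϖ⟩ := IsDiscreteValuationRing.exists_irreducible R
  exact ⟨ϖ, hϖ.ne_zero, hϖ.maximalIdeal_eq⟩

variable {X : Scheme.{u}} (a : X ⟶ (Spec (CommRingCat.of R))) [LocallyOfFiniteType a]

open Classical in
/-- The dimension function of a scheme over the trait. -/
noncomputable def dTot (p : X) : ℤ :=
  dTrait (a p) + (Cardinal.toNat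
    (letI := (a.residueFieldMap p).hom.toAlgebra
     Algebra.trdeg ((Spec (CommRingCat.of R)).residueField (a p)) (X.residueField p)) : ℕ)

theorem exists_fibre_preimage (p : X) (y : ↥(Spec (CommRingCat.of R))) (hp : a p = y) : ∃ z, a.fiberι y z = p := by
  have h : p ∈ Set.range (a.fiberι y) := by rw [a.range_fiberι]; exact hp
  exact h

theorem apply_fiberι (y : ↥(Spec (CommRingCat.of R))) (z : a.fiber y) : a (a.fiberι y z) = y := by
  have h : a.fiberι y z ∈ a ⁻¹' {y} := by rw [← a.range_fiberι]; exact ⟨z, rfl⟩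
  exact h

theorem deltaCompat_dTot : Cyc.DeltaCompat a (dTot a) dTrait := by
  intro p
  have key : ∀ (y : ↥(Spec (CommRingCat.of R))) (z : a.fiber y), a.fiberι y z = p → ∃ n : ℕ,
      (letI := (a.residueFieldMap p).hom.toAlgebra
       Algebra.trdeg ((Spec (CommRingCat.of R)).residueField (a p)) (X.residueField p)) = n := by
    rintro y z rfl
    exact ⟨_, trdeg_fibre a y z⟩
  obtain ⟨z, hz⟩ := exists_fibre_preimage a p _ rfl
  obtain ⟨n, hn⟩ := key _ z hz
  exact ⟨n, hn, by rw [dTot, hn, Cardinal.toNat_natCast]⟩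

theorem isDimFun_dTot : Cyc.IsDimFun X (dTot a) :=
  isDimFun_of_deltaCompat a catenary_stalk isDimFun_dTrait (deltaCompat_dTot a)

/-- The dimension function of a fibre. -/
theorem dTot_fiberι (y : ↥(Spec (CommRingCat.of R))) (δ : ↥(a.fiber y) → ℤ)
    (hδ : Cyc.DeltaCompat (a.fiberToSpecResidueField y) δ (fun _ => 0)) (z : a.fiber y) :
    dTot a (a.fiberι y z) = dTrait y + δ z := by
  obtain ⟨n, hn, hd⟩ := hδ z
  let g := a.fiberToSpecResidueField y
  let c := Scheme.residueFieldCongr (X := (Spec (CommRingCat.of R))) (x := (a.fiberι y ≫ a) z)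
    (y := (g ≫ (Spec (CommRingCat.of R)).fromSpecResidueField y) z) (by rw [Scheme.Hom.fiber_fac a y])
  have h' : ((a.fiberι y).residueFieldMap z).hom.comp (a.residueFieldMap (a.fiberι y z)).hom =
      (g.residueFieldMap z).hom.comp
        ((((Spec (CommRingCat.of R)).fromSpecResidueField y).residueFieldMap (g z)).hom.comp c.hom.hom) := by
    have h := Scheme.Hom.residueFieldMap_congr (Scheme.Hom.fiber_fac a y) z
    simp only [Scheme.residueFieldMap_comp] at h
    have := congrArg CommRingCat.Hom.hom h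
    simp only [CommRingCat.hom_comp, RingHom.comp_assoc] at this
    exact this
  have h1 := RadPtLib.residueFieldMap_bijective (a.fiberι y) z
  have hd' : Function.Bijective
      ((((Spec (CommRingCat.of R)).fromSpecResidueField y).residueFieldMap (g z)).hom.comp c.hom.hom) :=
    (RadPtLib.residueFieldMap_bijective ((Spec (CommRingCat.of R)).fromSpecResidueField y) (g z)).comp
      (ConcreteCategory.bijective_of_isIso c.hom)
  letI := (a.residueFieldMap (a.fiberι y z)).hom.toAlgebra
  letI := (g.residueFieldMap z).hom.toAlgebra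
  haveI : FaithfulSMul ((Spec ((Spec (CommRingCat.of R)).residueField y)).residueField (g z)) ((a.fiber y).residueField z) :=
    (faithfulSMul_iff_algebraMap_injective _ _).2 (g.residueFieldMap z).hom.injective
  have he : Algebra.trdeg ((Spec (CommRingCat.of R)).residueField (a (a.fiberι y z))) (X.residueField (a.fiberι y z)) = (n : Cardinal) := by
    rw [← hn]
    exact trdeg_congr (RingEquiv.ofBijective _ hd') (RingEquiv.ofBijective _ h1) (fun r => RingHom.congr_fun h' r)
  rw [dTot, he, Cardinal.toNat_natCast, apply_fiberι, hd]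
  simp

/-- The global function of the uniformiser at a point. -/
noncomputable def tAt (ϖ : R) (p : X) : X.presheaf.stalk p :=
  X.presheaf.germ ⊤ p trivial (a.appTop ((Scheme.ΓSpecIso (CommRingCat.of R)).inv ϖ))

theorem isUnit_tAt_iff (ϖ : R) (p : X) :
    IsUnit (tAt a ϖ p) ↔ ϖ ∉ (a p : PrimeSpectrum R).asIdeal := by
  have h1 : IsUnit (tAt a ϖ p) ↔ p ∈ X.basicOpen (a.appTop ((Scheme.ΓSpecIso (CommRingCat.of R)).inv ϖ)) :=
    (X.mem_basicOpen (U := ⊤) _ p trivial).symm
  rw [h1]
  show p ∈ X.basicOpen (a.app ⊤ ((Scheme.ΓSpecIso (CommRingCat.of R)).inv ϖ)) ↔ _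
  rw [← Scheme.preimage_basicOpen a, basicOpen_eq_of_affine]
  exact Iff.rfl

theorem algebraMap_stalk (q : ↥(Spec (CommRingCat.of R))) (c : R) :
    (StructureSheaf.toStalk R q).hom c =
      (Spec (CommRingCat.of R)).presheaf.germ ⊤ q trivial ((Scheme.ΓSpecIso (CommRingCat.of R)).inv c) :=
  (ConcreteCategory.congr_hom (StructureSheaf.algebraMap_germ (R := R) ⊤ q trivial) c).symm

theorem map_maximalIdeal (ϖ : R) (p : X) (h : (a p : PrimeSpectrum R).asIdeal = Ideal.span {ϖ}) :
    (maximalIdeal ((Spec (CommRingCat.of R)).presheaf.stalk (a p))).map (a.stalkMap p).hom = Ideal.span {tAt a ϖ p} := by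
  letI : Algebra R ((Spec (CommRingCat.of R)).presheaf.stalk (a p)) := StructureSheaf.stalkAlgebra R (a p)
  haveI : IsLocalization.AtPrime ((Spec (CommRingCat.of R)).presheaf.stalk (a p)) (a p : PrimeSpectrum R).asIdeal :=
    StructureSheaf.IsLocalization.to_stalk R (a p)
  rw [← IsLocalization.AtPrime.map_eq_maximalIdeal (a p : PrimeSpectrum R).asIdeal ((Spec (CommRingCat.of R)).presheaf.stalk (a p)),
    h, Ideal.map_span, Set.image_singleton, Ideal.map_span, Set.image_singleton]
  congr 2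
  show a.stalkMap p (algebraMap R ((Spec (CommRingCat.of R)).presheaf.stalk (a p)) ϖ) = _
  refine (congrArg (a.stalkMap p) (algebraMap_stalk (a p) ϖ)).trans ?_
  exact a.germ_stalkMap_apply ⊤ p trivial ((Scheme.ΓSpecIso (CommRingCat.of R)).inv ϖ)

theorem map_maximalIdeal_generic (p : X) (h : a p = (genericPoint ↥(Spec (CommRingCat.of R)))) :
    (maximalIdeal ((Spec (CommRingCat.of R)).presheaf.stalk (a p))).map (a.stalkMap p).hom = ⊥ := by
  rw [map_maximalIdeal a 0 p (by rw [h, generic_asIdeal, Ideal.span_singleton_eq_bot.2 rfl])]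
  refine Ideal.span_singleton_eq_bot.2 ?_
  simp [tAt]

theorem specMap_tAt_eq_zero_iff {ϖ : R} (hϖ : maximalIdeal R = Ideal.span {ϖ}) (hϖ0 : ϖ ≠ 0)
    {p ζ : X} (h : ζ ⤳ p) : Cyc.specMap p ζ h (tAt a ϖ p) = 0 ↔ a ζ = (IsLocalRing.closedPoint R) := by
  have e : X.presheaf.stalkSpecializes h (tAt a ϖ p) = tAt a ϖ ζ :=
    TopCat.Presheaf.germ_stalkSpecializes_apply X.presheaf (U := ⊤) trivial h _
  have h0 : Cyc.specMap p ζ h (tAt a ϖ p) = 0 ↔ ¬ IsUnit (tAt a ϖ ζ) := by
    rw [← RingHom.mem_ker, ker_specMap_eq_comap, Ideal.mem_comap, IsLocalRing.mem_maximalIdeal, mem_nonunits_iff]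
    exact not_congr (by rw [← e])
  rw [h0, isUnit_tAt_iff, not_not]
  constructor
  · intro hm
    rcases eq_or_eq (a ζ) with hh | hh
    · rw [hh, generic_asIdeal, Ideal.mem_bot] at hm
      exact absurd hm hϖ0
    · exact hh
  · intro hh
    rw [hh]
    show ϖ ∈ IsLocalRing.maximalIdeal R
    rw [hϖ]
    exact Ideal.mem_span_singleton_self ϖ

variable [IsLocallyNoetherian X] (F : X.Modules) (hF : Coh.IsCoh F) (hflat : FlatMod.IsFlatOver a F)

include hflat in
theorem isSMulRegular_tAt {ϖ : R} (hϖ : maximalIdeal R = Ideal.span {ϖ}) (hϖ0 : ϖ ≠ 0) (p : X) :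
    IsSMulRegular (F.presheaf.stalk p) (tAt a ϖ p) := by
  letI := FlatMod.moduleStalkOver a F p
  letI : Algebra R ((Spec (CommRingCat.of R)).presheaf.stalk (a p)) := StructureSheaf.stalkAlgebra R (a p)
  haveI : Module.Flat ((Spec (CommRingCat.of R)).presheaf.stalk (a p)) (F.presheaf.stalk p) := hflat p
  haveI : IsLocalization.AtPrime ((Spec (CommRingCat.of R)).presheaf.stalk (a p)) (a p : PrimeSpectrum R).asIdeal :=
    StructureSheaf.IsLocalization.to_stalk R (a p)
  let τ := (Spec (CommRingCat.of R)).presheaf.germ ⊤ (a p) trivial ((Scheme.ΓSpecIso (CommRingCat.of R)).inv ϖ)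
  have hτ : τ ∈ nonZeroDivisors ((Spec (CommRingCat.of R)).presheaf.stalk (a p)) :=
    (show τ = algebraMap R _ ϖ from (algebraMap_stalk (a p) ϖ).symm) ▸
      IsLocalization.nonZeroDivisors_le_comap (a p : PrimeSpectrum R).asIdeal.primeCompl ((Spec (CommRingCat.of R)).presheaf.stalk (a p))
        (mem_nonZeroDivisors_of_ne_zero hϖ0)
  have h := Module.Flat.isSMulRegular_of_nonZeroDivisors (M := F.presheaf.stalk p) hτ
  intro u v huv
  refine h ?_
  show a.stalkMap p τ • u = a.stalkMap p τ • v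
  rw [show a.stalkMap p τ = tAt a ϖ p from a.germ_stalkMap_apply ⊤ p trivial _]
  exact huv

include hF hflat in
theorem not_isAssociatedPrime {ϖ : R} (hϖ : maximalIdeal R = Ideal.span {ϖ}) (hϖ0 : ϖ ≠ 0) (p : X)
    {P : Ideal (X.presheaf.stalk p)} (hP : IsAssociatedPrime P (F.presheaf.stalk p)) : tAt a ϖ p ∉ P := by
  intro ht
  haveI := FDesc.QuasiFlat.finite_stalk_of_isCoh F hF p
  have hmem : tAt a ϖ p ∈ ⋃ q ∈ associatedPrimes (X.presheaf.stalk p) (F.presheaf.stalk p), (q : Set _) :=
    Set.mem_iUnion₂.2 ⟨P, hP, ht⟩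
  rw [biUnion_associatedPrimes_eq_zero_divisors] at hmem
  obtain ⟨u, hu0, hu⟩ := hmem
  exact hu0 (isSMulRegular_tAt a F hflat hϖ hϖ0 p (by simpa using hu))

include hF hflat in
/-- Points of the support in the closed fibre are proper specialisations of points in the generic fibre. -/
theorem exists_generic_generization (p : X) (hp : Nontrivial (F.presheaf.stalk p)) (hs : a p = (IsLocalRing.closedPoint R)) :
    ∃ ζ : X, ζ ⤳ p ∧ ζ ≠ p ∧ a ζ = (genericPoint ↥(Spec (CommRingCat.of R))) ∧ Nontrivial (F.presheaf.stalk ζ) := by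
  haveI := hF.1
  haveI := FDesc.QuasiFlat.finite_stalk_of_isCoh F hF p
  obtain ⟨ϖ, hϖ0, hϖ⟩ := exists_uniformizer (R := R)
  obtain ⟨P, hP⟩ := Ideal.nonempty_minimalPrimes (I := Module.annihilator (X.presheaf.stalk p) (F.presheaf.stalk p))
    (fun h => not_subsingleton (F.presheaf.stalk p) (Module.annihilator_eq_top_iff.1 h))
  have htP := not_isAssociatedPrime a F hF hflat hϖ hϖ0 p (minimalPrimes_subset_associatedPrimes _ hP)
  obtain ⟨ζ, h, he⟩ := exists_ptPrime p ⟨P, hP.1.1⟩
  obtain rfl : RingHom.ker (Cyc.specMap p ζ h) = P := congrArg PrimeSpectrum.asIdeal he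
  have hne : a ζ ≠ (IsLocalRing.closedPoint R) := fun hh => htP ((specMap_tAt_eq_zero_iff a hϖ hϖ0 h).2 hh)
  exact ⟨ζ, h, fun hh => hne (hh ▸ hs), (eq_or_eq _).resolve_right hne,
    (nontrivial_stalk_iff_le F h).2 hP.1.2⟩

variable (δη : ↥(a.fiber (genericPoint ↥(Spec (CommRingCat.of R)))) → ℤ) (δs : ↥(a.fiber (IsLocalRing.closedPoint R)) → ℤ)
  (hδη : Cyc.DeltaCompat (a.fiberToSpecResidueField (genericPoint ↥(Spec (CommRingCat.of R)))) δη (fun _ => 0))
  (hδs : Cyc.DeltaCompat (a.fiberToSpecResidueField (IsLocalRing.closedPoint R)) δs (fun _ => 0)) (r : ℤ)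
  (hdim : ∀ ζ : ↥(a.fiber (genericPoint ↥(Spec (CommRingCat.of R)))), Nontrivial (F.presheaf.stalk (a.fiberι (genericPoint ↥(Spec (CommRingCat.of R))) ζ)) → δη ζ ≤ r)

include hF hflat hδη hδs hdim in
theorem dim_closed (x : ↥(a.fiber (IsLocalRing.closedPoint R))) (hx : Nontrivial (F.presheaf.stalk (a.fiberι (IsLocalRing.closedPoint R) x))) : δs x ≤ r := by
  obtain ⟨ζ, h, hne, hη, hn⟩ := exists_generic_generization a F hF hflat _ hx (apply_fiberι a _ x)
  obtain ⟨z, rfl⟩ := exists_fibre_preimage a ζ _ hη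
  have h1 := ((isDimFun_dTot a) _ _ h hne).1
  rw [dTot_fiberι a _ δη hδη, dTot_fiberι a _ δs hδs] at h1
  have h2 := hdim z hn
  simp only [dTrait, if_pos, if_neg generic_ne_closed] at h1
  omega

include hF hflat hδη hδs hdim in
theorem spFun_eq (x : ↥(a.fiber (IsLocalRing.closedPoint R))) :
    Cyc.spFun a (genericPoint ↥(Spec (CommRingCat.of R))) (IsLocalRing.closedPoint R) δη δs r (Cyc.sheafFun δη r ((Scheme.Modules.pullback (a.fiberι (genericPoint ↥(Spec (CommRingCat.of R))))).obj F)) x =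
      Cyc.sheafFun δs r ((Scheme.Modules.pullback (a.fiberι (IsLocalRing.closedPoint R))).obj F) x := by
  classical
  haveI := hF.1
  unfold Cyc.spFun Cyc.sheafFun
  by_cases hx : δs x = r
  swap
  · rw [if_neg hx, if_neg hx]
  rw [if_pos hx, if_pos hx, (exists_pullback_stalk_equiv F (a.fiberι (IsLocalRing.closedPoint R)) x).2,
    FlatMor.FibreStalk.ker_stalkMap_fiberι]
  set p := a.fiberι (IsLocalRing.closedPoint R) x with hp
  have hps : a p = (IsLocalRing.closedPoint R) := apply_fiberι a _ x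
  obtain ⟨ϖ, hϖ0, hϖ⟩ := exists_uniformizer (R := R)
  have hm : (maximalIdeal ((Spec (CommRingCat.of R)).presheaf.stalk (a p))).map (a.stalkMap p).hom = Ideal.span {tAt a ϖ p} :=
    map_maximalIdeal a ϖ p (by rw [hps]; exact hϖ)
  rw [hm]
  let A := X.presheaf.stalk p
  set N := F.presheaf.stalk p
  set t := tAt a ϖ p with htdef
  haveI : Module.Finite A N := FDesc.QuasiFlat.finite_stalk_of_isCoh F hF p
  have hlen : ∀ ζ : ↥(a.fiber (genericPoint ↥(Spec (CommRingCat.of R)))),
      Module.length ((a.fiber (genericPoint ↥(Spec (CommRingCat.of R)))).presheaf.stalk ζ)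
        (((Scheme.Modules.pullback (a.fiberι (genericPoint ↥(Spec (CommRingCat.of R))))).obj F).presheaf.stalk ζ) =
      Module.length (X.presheaf.stalk (a.fiberι (genericPoint ↥(Spec (CommRingCat.of R))) ζ)) (F.presheaf.stalk (a.fiberι (genericPoint ↥(Spec (CommRingCat.of R))) ζ)) := fun ζ => by
    rw [(exists_pullback_stalk_equiv F (a.fiberι (genericPoint ↥(Spec (CommRingCat.of R)))) ζ).2, FlatMor.FibreStalk.ker_stalkMap_fiberι,
      map_maximalIdeal_generic a _ (apply_fiberι a _ ζ), Submodule.bot_smul]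
    exact (Submodule.quotEquivOfEqBot _ rfl).length_eq
  by_cases hnt : Nontrivial N
  swap
  · rw [not_nontrivial_iff_subsingleton] at hnt
    haveI := hnt
    rw [Module.length_eq_zero]
    refine finsum_eq_zero_of_forall_eq_zero fun ζ => ?_
    rw [if_pos ζ.2.1, hlen]
    haveI : Subsingleton (F.presheaf.stalk (a.fiberι (genericPoint ↥(Spec (CommRingCat.of R))) ζ.1)) := by
      by_contra hn
      have h' := (nontrivial_stalk_iff_le F ζ.2.2).1 (not_subsingleton_iff_nontrivial.1 hn)
      rw [Module.annihilator_eq_top_iff.2 hnt] at h'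
      exact (RingHom.ker_ne_top _) (top_le_iff.1 h')
    rw [Module.length_eq_zero]
    simp
  haveI := hnt
  have hd := isDimFun_dTot a
  have hpk : dTot a p = r := by
    rw [hp, dTot_fiberι a _ δs hδs, hx]
    simp [dTrait]
  have hη1 : dTrait ((genericPoint ↥(Spec (CommRingCat.of R))) : ↥(Spec (CommRingCat.of R))) = 1 := if_neg generic_ne_closed
  have hge : ∀ ζ, ∀ h : ζ ⤳ p, Nontrivial (F.presheaf.stalk ζ) →
      (∃ z, a.fiberι (genericPoint ↥(Spec (CommRingCat.of R))) z = ζ ∧ δη z = r) ∨ ζ = p := by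
    intro ζ h hn
    by_cases he : ζ = p
    · exact Or.inr he
    refine Or.inl ?_
    have h1 := (hd ζ p h he).1
    rcases eq_or_eq (a ζ) with hh | hh
    · obtain ⟨z, rfl⟩ := exists_fibre_preimage a ζ _ hh
      refine ⟨z, rfl, ?_⟩
      rw [dTot_fiberι a _ δη hδη, hη1, hpk] at h1
      have := hdim z hn
      omega
    · obtain ⟨z, rfl⟩ := exists_fibre_preimage a ζ _ hh
      have := dim_closed a F hF hflat δη δs hδη hδs r hdim z hn
      rw [hpk, dTot_fiberι a _ δs hδs, show dTrait ((IsLocalRing.closedPoint R) : ↥(Spec (CommRingCat.of R))) = 0 from if_pos rfl] at h1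
      omega
  have hmax0 : ∀ h : p ⤳ p, RingHom.ker (Cyc.specMap p p h) = maximalIdeal A := fun h => by
    rw [ker_specMap_eq_comap, show X.presheaf.stalkSpecializes h = 𝟙 _ from
      TopCat.Presheaf.stalk_hom_ext _ fun U hU => by simp]
    exact Ideal.comap_id _
  have htm : t ∈ maximalIdeal A := by
    rw [IsLocalRing.mem_maximalIdeal, mem_nonunits_iff, htdef, isUnit_tAt_iff, not_not, hps]
    show ϖ ∈ IsLocalRing.maximalIdeal R
    rw [hϖ]
    exact Ideal.mem_span_singleton_self ϖ
  have hass : ¬ IsAssociatedPrime (maximalIdeal A) N := fun h =>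
    not_isAssociatedPrime a F hF hflat hϖ hϖ0 p h htm
  have hnot : maximalIdeal A ∉ (Module.annihilator A N).minimalPrimes := fun h =>
    hass (minimalPrimes_subset_associatedPrimes N h)
  have hmin : ∀ (z) (h : a.fiberι (genericPoint ↥(Spec (CommRingCat.of R))) z ⤳ p), δη z = r → Nontrivial (F.presheaf.stalk (a.fiberι (genericPoint ↥(Spec (CommRingCat.of R))) z)) →
      RingHom.ker (Cyc.specMap p _ h) ∈ (Module.annihilator A N).minimalPrimes := by
    refine fun z h hz hn => ⟨⟨RingHom.ker_isPrime _, (nontrivial_stalk_iff_le F h).1 hn⟩, fun J hJ hle => ?_⟩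
    obtain ⟨ζ', h', he⟩ := exists_ptPrime p ⟨J, hJ.1⟩
    obtain rfl : RingHom.ker (Cyc.specMap p ζ' h') = J := congrArg PrimeSpectrum.asIdeal he
    have hsp := (ptPrime_le_iff h' h).1 hle
    rcases hge ζ' h' ((nontrivial_stalk_iff_le F h').2 hJ.2) with ⟨z', rfl, hz'⟩ | rfl
    · have := eq_of_specializes hd hsp (by
        rw [dTot_fiberι a _ δη hδη, dTot_fiberι a _ δη hδη, hz, hz'])
      have e : z' = z := (a.fiberι (genericPoint ↥(Spec (CommRingCat.of R)))).isEmbedding.injective this
      subst e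
      exact le_rfl
    · have := le_of_specializes hd hsp
      rw [dTot_fiberι a _ δη hδη, hz, hη1, hpk] at this
      omega
  have hminiff : ∀ P : PrimeSpectrum A, P.asIdeal ∈ (Module.annihilator A N).minimalPrimes →
      ∃ z, ∃ h : a.fiberι (genericPoint ↥(Spec (CommRingCat.of R))) z ⤳ p, ptPrime p _ h = P ∧ δη z = r ∧
        Nontrivial (F.presheaf.stalk (a.fiberι (genericPoint ↥(Spec (CommRingCat.of R))) z)) := by
    intro P hP'
    obtain ⟨ζ, h, rfl⟩ := exists_ptPrime p P
    have hn : Nontrivial (F.presheaf.stalk ζ) := (nontrivial_stalk_iff_le F h).2 hP'.1.2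
    rcases hge ζ h hn with ⟨z, rfl, hz⟩ | rfl
    · exact ⟨z, h, rfl, hz, hn⟩
    · exact absurd (hmax0 h ▸ hP') hnot
  have hdim' : ∀ P : Ideal A, P.IsPrime → Module.annihilator A N ≤ P →
      P ∈ (Module.annihilator A N).minimalPrimes ∨ P = maximalIdeal A := by
    intro P hP' hle
    obtain ⟨ζ, h, he⟩ := exists_ptPrime p ⟨P, hP'⟩
    obtain rfl : RingHom.ker (Cyc.specMap p ζ h) = P := congrArg PrimeSpectrum.asIdeal he
    have hn := (nontrivial_stalk_iff_le F h).2 hle
    rcases hge ζ h hn with ⟨z, rfl, hz⟩ | rfl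
    · exact Or.inl (hmin z h hz hn)
    · exact Or.inr (hmax0 h)
  have ht : ∀ P ∈ (Module.annihilator A N).minimalPrimes, t ∉ P := fun P hP' =>
    not_isAssociatedPrime a F hF hflat hϖ hϖ0 p (minimalPrimes_subset_associatedPrimes N hP')
  have hfin : {P : PrimeSpectrum A | P.asIdeal ∈ (Module.annihilator A N).minimalPrimes}.Finite :=
    (Ideal.finite_minimalPrimes_of_isNoetherianRing A (Module.annihilator A N)).preimage
      fun a _ b _ e => PrimeSpectrum.ext e
  rw [length_cut_module N hdim' hass t ht hfin.toFinset fun P => hfin.mem_toFinset, Nat.cast_sum]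
  choose zf hzf hzp hzr hzn using fun P : hfin.toFinset => hminiff P.1 (hfin.mem_toFinset.1 P.2)
  let f : hfin.toFinset → {ζ : ↥(a.fiber (genericPoint ↥(Spec (CommRingCat.of R)))) // δη ζ = r ∧ (a.fiberι (genericPoint ↥(Spec (CommRingCat.of R))) ζ) ⤳ p} := fun P =>
    ⟨zf P, hzr P, hzf P⟩
  have hf : Function.Injective f := fun P Q h => Subtype.ext (by
    rw [← hzp P, ← hzp Q]
    have : zf P = zf Q := congrArg Subtype.val h
    congr 1
    · rw [this])
  rw [finsum_eq_sum_of_support_subset _ (s := Finset.univ.image f) ?_,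
    Finset.sum_image fun _ _ _ _ h => hf h, ← Finset.sum_coe_sort hfin.toFinset]
  · refine Finset.sum_congr rfl fun P _ => ?_
    show (if δη (zf P) = r then _ else _) * _ = _
    rw [if_pos (hzr P), hlen, ← length_localized_stalk F (hzf P), Nat.cast_mul]
    rw [← hzp P]
    congr 1
    refine congrArg (fun n : ℕ∞ => ((n.toNat : ℕ) : ℤ)) ?_
    rw [← Ideal.map_map, hm]
    exact (DoubleQuot.quotQuotEquivQuotSupₐ A (ptPrime p _ (hzf P)).asIdeal (Ideal.span {t})).toLinearEquiv.length_eq
  · intro ζ hζ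
    have hn : Nontrivial (F.presheaf.stalk (a.fiberι (genericPoint ↥(Spec (CommRingCat.of R))) ζ.1)) := by
      by_contra hn
      rw [not_nontrivial_iff_subsingleton] at hn
      refine hζ ?_
      show (if δη ζ.1 = r then _ else _) * _ = _
      rw [if_pos ζ.2.1, hlen, Module.length_eq_zero]
      simp
    have hmem : ptPrime p _ ζ.2.2 ∈ hfin.toFinset := hfin.mem_toFinset.2 (hmin ζ.1 ζ.2.2 ζ.2.1 hn)
    refine Finset.mem_coe.2 (Finset.mem_image.2 ⟨⟨_, hmem⟩, Finset.mem_univ _, Subtype.ext ?_⟩)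
    refine (a.fiberι (genericPoint ↥(Spec (CommRingCat.of R)))).isEmbedding.injective ?_
    show a.fiberι (genericPoint ↥(Spec (CommRingCat.of R))) (zf ⟨_, hmem⟩) = a.fiberι (genericPoint ↥(Spec (CommRingCat.of R))) ζ.1
    rw [← fromSpecStalk_ptPrime p _ (hzf ⟨_, hmem⟩), hzp ⟨_, hmem⟩, fromSpecStalk_ptPrime]

include hF hflat hδη hδs hdim in
/-- The theorem. -/
theorem main :
    (∀ x : ↥(a.fiber (IsLocalRing.closedPoint R)), Nontrivial (F.presheaf.stalk (a.fiberι (IsLocalRing.closedPoint R) x)) → δs x ≤ r) ∧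
      Cyc.spFun a (genericPoint ↥(Spec (CommRingCat.of R))) (IsLocalRing.closedPoint R) δη δs r (Cyc.sheafFun δη r ((Scheme.Modules.pullback (a.fiberι (genericPoint ↥(Spec (CommRingCat.of R))))).obj F)) =
        Cyc.sheafFun δs r ((Scheme.Modules.pullback (a.fiberι (IsLocalRing.closedPoint R))).obj F) :=
  ⟨dim_closed a F hF hflat δη δs hδη hδs r hdim, funext (spFun_eq a F hF hflat δη δs hδη hδs r hdim)⟩

end Groth.Agent.SpFlat88
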