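import Groth.Agent.SpFlat88.Basic
import Groth.Agent.CycLib.NormMap
import Groth.Agent.CycLib.CurveDeg
import Groth.Agent.CycLib.FibreDeg
import Groth.Agent.CycLib.FlatBC

/-!
Specialisation of cycles over a discrete valuation ring commutes with proper push-forward.
-/

set_option autoImplicit false
set_option linter.style.haveILetI false
set_option maxHeartbeats 800000

universe u

open CategoryTheory Limits AlgebraicGeometry IsLocalRing TopologicalSpace

namespace Groth.Agent.SpFlat88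

open Groth.Agent Groth.Agent.CycLib

variable {R : Type u} [CommRing R] [IsDomain R] [IsDiscreteValuationRing R]


variable {X Y : Scheme.{u}} (a : X ⟶ Spec (CommRingCat.of R)) [LocallyOfFiniteType a]

noncomputable def gAt (ϖ : R) (p : X) : X.residueField p := X.residue p (tAt a ϖ p)

theorem specMap_tAt (ϖ : R) {p ζ : X} (h : ζ ⤳ p) :
    Cyc.specMap p ζ h (tAt a ϖ p) = gAt a ϖ ζ := by
  have e : X.presheaf.stalkSpecializes h (tAt a ϖ p) = tAt a ϖ ζ :=
    TopCat.Presheaf.germ_stalkSpecializes_apply X.presheaf (U := ⊤) trivial h _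
  exact congrArg (X.residue ζ) e

theorem gAt_ne_zero {ϖ : R} (hϖ : maximalIdeal R = Ideal.span {ϖ}) (hϖ0 : ϖ ≠ 0) {p : X}
    (hp : a p = (genericPoint ↥(Spec (CommRingCat.of R)))) : gAt a ϖ p ≠ 0 := by
  rw [← specMap_tAt a ϖ (specializes_refl p)]
  intro h
  rw [specMap_tAt_eq_zero_iff a hϖ hϖ0] at h
  exact generic_ne_closed (hp.symm.trans h)

/-- The term of the specialisation of a point of the generic fibre. -/
noncomputable def spDiv (ϖ : R) (ζ : ↥(a.fiber (genericPoint ↥(Spec (CommRingCat.of R))))) : X → ℤ :=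
  Cyc.divFun (dTot a) (a.fiberι (genericPoint ↥(Spec (CommRingCat.of R))) ζ) (gAt a ϖ (a.fiberι (genericPoint ↥(Spec (CommRingCat.of R))) ζ))

variable [IsLocallyNoetherian X]

theorem spFun_eq_sum {ϖ : R} (hϖ : maximalIdeal R = Ideal.span {ϖ}) (hϖ0 : ϖ ≠ 0)
    (δη : ↥(a.fiber (genericPoint ↥(Spec (CommRingCat.of R)))) → ℤ) (δs : ↥(a.fiber (IsLocalRing.closedPoint R)) → ℤ)
    (hδη : Cyc.DeltaCompat (a.fiberToSpecResidueField (genericPoint ↥(Spec (CommRingCat.of R)))) δη (fun _ => 0))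
    (hδs : Cyc.DeltaCompat (a.fiberToSpecResidueField (IsLocalRing.closedPoint R)) δs (fun _ => 0)) (r : ℤ)
    (α : ↥(a.fiber (genericPoint ↥(Spec (CommRingCat.of R)))) → ℤ) (x : ↥(a.fiber (IsLocalRing.closedPoint R))) (hx : δs x = r) (T : Finset ↥(a.fiber (genericPoint ↥(Spec (CommRingCat.of R)))))
    (hT : ∀ ζ, δη ζ = r → a.fiberι (genericPoint ↥(Spec (CommRingCat.of R))) ζ ⤳ a.fiberι (IsLocalRing.closedPoint R) x → α ζ ≠ 0 → ζ ∈ T)
    (hT' : ∀ ζ ∈ T, α ζ ≠ 0 → δη ζ = r) :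
    Cyc.spFun a (genericPoint ↥(Spec (CommRingCat.of R))) (IsLocalRing.closedPoint R) δη δs r α x = ∑ ζ ∈ T, α ζ * spDiv a ϖ ζ (a.fiberι (IsLocalRing.closedPoint R) x) := by
  classical
  set p := a.fiberι (IsLocalRing.closedPoint R) x with hpdef
  have hps : a p = (IsLocalRing.closedPoint R) := apply_fiberι a _ x
  have hd := isDimFun_dTot a
  have hpk : dTot a p = r := by
    rw [hpdef, dTot_fiberι a _ δs hδs, hx]
    simp [dTrait]
  have hζk : ∀ ζ, dTot a (a.fiberι (genericPoint ↥(Spec (CommRingCat.of R))) ζ) = δη ζ + 1 := fun ζ => by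
    rw [dTot_fiberι a _ δη hδη, show dTrait ((genericPoint ↥(Spec (CommRingCat.of R))) : ↥(Spec (CommRingCat.of R))) = 1 from if_neg generic_ne_closed]
    ring
  have hm : (maximalIdeal ((Spec (CommRingCat.of R)).presheaf.stalk (a p))).map (a.stalkMap p).hom =
      Ideal.span {tAt a ϖ p} := map_maximalIdeal a ϖ p (by rw [hps]; exact hϖ)
  rw [Cyc.spFun, if_pos hx]
  rw [finsum_eq_sum_of_support_subset _
    (s := T.subtype fun ζ => δη ζ = r ∧ a.fiberι (genericPoint ↥(Spec (CommRingCat.of R))) ζ ⤳ p) ?_]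
  swap
  · intro ζ hζ
    exact Finset.mem_coe.2 (Finset.mem_subtype.2 (hT ζ.1 ζ.2.1 ζ.2.2 (left_ne_zero_of_mul hζ)))
  rw [← Finset.sum_filter_of_ne (s := T) (p := fun ζ => δη ζ = r ∧ a.fiberι (genericPoint ↥(Spec (CommRingCat.of R))) ζ ⤳ p)
    (f := fun ζ => α ζ * spDiv a ϖ ζ p) ?_,
    ← Finset.sum_subtype_eq_sum_filter]
  swap
  · intro ζ hζ hne
    obtain ⟨h1, h2⟩ := mul_ne_zero_iff.1 hne
    refine ⟨hT' ζ hζ h1, ?_⟩
    by_contra hh
    exact h2 (dif_neg fun h => hh h.1)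
  refine Finset.sum_congr rfl fun ζ _ => ?_
  obtain ⟨ζ, hr, hsp⟩ := ζ
  have h1 : dTot a p + 1 = dTot a (a.fiberι (genericPoint ↥(Spec (CommRingCat.of R))) ζ) := by rw [hpk, hζk, hr]
  show _ = α ζ * spDiv a ϖ ζ p
  congr 1
  rw [spDiv, Cyc.divFun, dif_pos ⟨hsp, h1⟩, ← specMap_tAt a ϖ hsp,
    ordAt_specMap hd hsp h1 (by
      rw [specMap_tAt]
      exact gAt_ne_zero a hϖ hϖ0 (apply_fiberι a _ ζ))]
  rw [← Ideal.map_map, hm, Ideal.map_span, Set.image_singleton]
  unfold LenLib.ordZ LenLib.lenZ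
  exact congrArg (fun n : ℕ∞ => ((n.toNat : ℕ) : ℤ))
    (Module.length_eq_of_surjective (S := X.presheaf.stalk p) (R := Cyc.LocQuot p (a.fiberι (genericPoint ↥(Spec (CommRingCat.of R))) ζ) hsp) Ideal.Quotient.mk_surjective)

variable [IsLocallyNoetherian Y] (b : Y ⟶ Spec (CommRingCat.of R)) [LocallyOfFiniteType b]
  (f : X ⟶ Y) [IsProper f]

theorem dTot_deltaCompat (hab : a = f ≫ b) : Cyc.DeltaCompat f (dTot a) (dTot b) := by
  subst hab
  haveI : LocallyOfFiniteType f := inferInstance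
  let δ : X → ℤ := fun p => dTot b (f p) + (Cardinal.toNat
    (letI := (f.residueFieldMap p).hom.toAlgebra
     Algebra.trdeg (Y.residueField (f p)) (X.residueField p)) : ℕ)
  have key : ∀ (y : Y) (z : f.fiber y) (p : X), f.fiberι y z = p → ∃ n : ℕ,
      (letI := (f.residueFieldMap p).hom.toAlgebra
       Algebra.trdeg (Y.residueField (f p)) (X.residueField p)) = n := by
    rintro y z _ rfl
    exact ⟨_, trdeg_fibre f y z⟩
  have hf : Cyc.DeltaCompat f δ (dTot b) := by
    intro p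
    have hp : p ∈ Set.range (f.fiberι (f p)) := by rw [f.range_fiberι]; rfl
    obtain ⟨z, hz⟩ := hp
    obtain ⟨n, hn⟩ := key _ z p hz
    refine ⟨n, hn, ?_⟩
    simp only [δ, hn, Cardinal.toNat_natCast]
  have he : δ = dTot (f ≫ b) :=
    deltaCompat_eq (deltaCompat_comp hf (deltaCompat_dTot b)) (deltaCompat_dTot (f ≫ b))
  rwa [he] at hf

theorem gAt_comp (hab : a = f ≫ b) (ϖ : R) (p : X) :
    f.residueFieldMap p (gAt b ϖ (f p)) = gAt a ϖ p := by
  subst hab
  have e : f.stalkMap p (tAt b ϖ (f p)) = tAt (f ≫ b) ϖ p :=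
    f.germ_stalkMap_apply ⊤ p trivial (b.appTop ((Scheme.ΓSpecIso (CommRingCat.of R)).inv ϖ))
  show f.residueFieldMap p (Y.residue (f p) (tAt b ϖ (f p))) = X.residue p (tAt (f ≫ b) ϖ p)
  rw [← e]
  rfl

theorem divFun_pow {δ : Y → ℤ} (hd : Cyc.IsDimFun Y δ) {ξ : Y} {g : Y.residueField ξ} (hg : g ≠ 0) (k : ℕ)
    (y : Y) : Cyc.divFun δ ξ (g ^ k) y = k * Cyc.divFun δ ξ g y := by
  unfold Cyc.divFun
  split_ifs with h
  · induction k with
    | zero => rw [pow_zero, ordAt_one hd h.1 h.2]; simp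
    | succ n ih => rw [pow_succ, ordAt_mul hd h.1 h.2 (pow_ne_zero n hg) hg, ih]; push_cast; ring
  · simp

/-- Specialisation commutes with proper push-forward. -/
theorem spFun_map (hab : a = f ≫ b)
    (fη : a.fiber (genericPoint ↥(Spec (CommRingCat.of R))) ⟶ b.fiber (genericPoint ↥(Spec (CommRingCat.of R)))) [QuasiCompact fη] (hfη : fη ≫ b.fiberι (genericPoint ↥(Spec (CommRingCat.of R))) = a.fiberι (genericPoint ↥(Spec (CommRingCat.of R))) ≫ f)
    (fs : a.fiber (IsLocalRing.closedPoint R) ⟶ b.fiber (IsLocalRing.closedPoint R)) [QuasiCompact fs] (hfs : fs ≫ b.fiberι (IsLocalRing.closedPoint R) = a.fiberι (IsLocalRing.closedPoint R) ≫ f)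
    (δXη : ↥(a.fiber (genericPoint ↥(Spec (CommRingCat.of R)))) → ℤ) (δXs : ↥(a.fiber (IsLocalRing.closedPoint R)) → ℤ)
    (δYη : ↥(b.fiber (genericPoint ↥(Spec (CommRingCat.of R)))) → ℤ) (δYs : ↥(b.fiber (IsLocalRing.closedPoint R)) → ℤ)
    (hXη : Cyc.DeltaCompat (a.fiberToSpecResidueField (genericPoint ↥(Spec (CommRingCat.of R)))) δXη (fun _ => 0))
    (hXs : Cyc.DeltaCompat (a.fiberToSpecResidueField (IsLocalRing.closedPoint R)) δXs (fun _ => 0))
    (hYη : Cyc.DeltaCompat (b.fiberToSpecResidueField (genericPoint ↥(Spec (CommRingCat.of R)))) δYη (fun _ => 0))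
    (hYs : Cyc.DeltaCompat (b.fiberToSpecResidueField (IsLocalRing.closedPoint R)) δYs (fun _ => 0))
    (r : ℤ) (α : AlgebraicCycle (a.fiber (genericPoint ↥(Spec (CommRingCat.of R)))) ℤ) (hα : α ∈ Cyc.Zk (a.fiber (genericPoint ↥(Spec (CommRingCat.of R)))) δXη r)
    (β : AlgebraicCycle (a.fiber (IsLocalRing.closedPoint R)) ℤ) (hβ : ⇑β = Cyc.spFun a (genericPoint ↥(Spec (CommRingCat.of R))) (IsLocalRing.closedPoint R) δXη δXs r ⇑α)
    (y : ↥(b.fiber (IsLocalRing.closedPoint R))) :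
    Cyc.spFun b (genericPoint ↥(Spec (CommRingCat.of R))) (IsLocalRing.closedPoint R) δYη δYs r ⇑(AlgebraicCycle.map fη δXη δYη α) y =
      AlgebraicCycle.map fs δXs δYs β y := by
  classical
  by_cases hy : δYs y = r
  swap
  · rw [Cyc.spFun, if_neg hy, map_apply_eq_sum fs δXs δYs β y (finite_fibre_support fs β y).toFinset
      (fun x h1 h2 => (Set.Finite.mem_toFinset _).2 ⟨h1, h2⟩), Finset.sum_eq_zero fun x hx => ?_]
    obtain ⟨-, hxy⟩ := Finset.mem_filter.1 hx
    unfold AlgebraicCycle.mapCoeff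
    by_cases h : δXs x = δYs (fs x)
    · rw [show β x = 0 from by rw [hβ, Cyc.spFun, if_neg (by rw [h, hxy]; exact hy)], zero_mul]
    · rw [if_neg h, Nat.cast_zero, mul_zero]
  obtain ⟨ϖ, hϖ0, hϖ⟩ := exists_uniformizer (R := R)
  set q := b.fiberι (IsLocalRing.closedPoint R) y with hqdef
  obtain ⟨V, hV, hqV, -⟩ := exists_isAffineOpen_mem_and_subset (Opens.mem_top q)
  haveI : IsAffineHom ((Spec (CommRingCat.of R)).fromSpecResidueField (genericPoint ↥(Spec (CommRingCat.of R)))) := inferInstance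
  haveI hqcι : QuasiCompact (a.fiberι (genericPoint ↥(Spec (CommRingCat.of R)))) := by
    delta Scheme.Hom.fiberι Scheme.Hom.fiber
    infer_instance
  let U : (a.fiber (genericPoint ↥(Spec (CommRingCat.of R)))).Opens := a.fiberι (genericPoint ↥(Spec (CommRingCat.of R))) ⁻¹ᵁ (f ⁻¹ᵁ V)
  have hUc : IsCompact (U : Set ↥(a.fiber (genericPoint ↥(Spec (CommRingCat.of R))))) :=
    (a.fiberι (genericPoint ↥(Spec (CommRingCat.of R)))).isCompact_preimage (f.isCompact_preimage hV.isCompact)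
  have hSfin : ((U : Set ↥(a.fiber (genericPoint ↥(Spec (CommRingCat.of R))))) ∩ Function.support α).Finite := α.locallyFiniteSupport.finite_inter_support_of_isCompact hUc
  let S := hSfin.toFinset
  have hSα : ∀ ζ ∈ S, δXη ζ = r := fun ζ hζ => by
    by_contra h
    exact ((Set.Finite.mem_toFinset _).1 hζ).2 (hα ζ h)
  have cη : ∀ ζ, f (a.fiberι (genericPoint ↥(Spec (CommRingCat.of R))) ζ) = b.fiberι (genericPoint ↥(Spec (CommRingCat.of R))) (fη ζ) := fun ζ => by
    show (a.fiberι (genericPoint ↥(Spec (CommRingCat.of R))) ≫ f) ζ = (fη ≫ b.fiberι (genericPoint ↥(Spec (CommRingCat.of R)))) ζ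
    rw [hfη]
  have cs : ∀ x, f (a.fiberι (IsLocalRing.closedPoint R) x) = b.fiberι (IsLocalRing.closedPoint R) (fs x) := fun x => by
    show (a.fiberι (IsLocalRing.closedPoint R) ≫ f) x = (fs ≫ b.fiberι (IsLocalRing.closedPoint R)) x
    rw [hfs]
  have hmem : ∀ ζ, α ζ ≠ 0 → f (a.fiberι (genericPoint ↥(Spec (CommRingCat.of R))) ζ) ⤳ q → ζ ∈ S := fun ζ h1 h2 =>
    (Set.Finite.mem_toFinset _).2 ⟨h2.mem_open V.2 hqV, h1⟩
  have hcη : ∀ ζ, AlgebraicCycle.mapCoeff fη δXη δYη ζ = AlgebraicCycle.mapCoeff f (dTot a) (dTot b) (a.fiberι (genericPoint ↥(Spec (CommRingCat.of R))) ζ) := fun ζ => by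
    have h1 := residueDegree_comp fη (b.fiberι (genericPoint ↥(Spec (CommRingCat.of R)))) ζ
    have h2 := residueDegree_comp (a.fiberι (genericPoint ↥(Spec (CommRingCat.of R)))) f ζ
    rw [residueDegree_closedImmersion (b.fiberι (genericPoint ↥(Spec (CommRingCat.of R)))), mul_one] at h1
    rw [residueDegree_closedImmersion (a.fiberι (genericPoint ↥(Spec (CommRingCat.of R)))), one_mul] at h2
    unfold AlgebraicCycle.mapCoeff
    rw [← h1, ← h2, residueDegree_congr hfη ζ, cη, dTot_fiberι a _ δXη hXη, dTot_fiberι b _ δYη hYη]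
    simp only [add_right_inj]
  have hcs : ∀ x, AlgebraicCycle.mapCoeff fs δXs δYs x = AlgebraicCycle.mapCoeff f (dTot a) (dTot b) (a.fiberι (IsLocalRing.closedPoint R) x) := fun x => by
    have h1 := residueDegree_comp fs (b.fiberι (IsLocalRing.closedPoint R)) x
    have h2 := residueDegree_comp (a.fiberι (IsLocalRing.closedPoint R)) f x
    rw [residueDegree_closedImmersion (b.fiberι (IsLocalRing.closedPoint R)), mul_one] at h1
    rw [residueDegree_closedImmersion (a.fiberι (IsLocalRing.closedPoint R)), one_mul] at h2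
    unfold AlgebraicCycle.mapCoeff
    rw [← h1, ← h2, residueDegree_congr hfs x, cs, dTot_fiberι a _ δXs hXs, dTot_fiberι b _ δYs hYs]
    simp only [add_right_inj]
  have hcoeff : ∀ ζ, AlgebraicCycle.mapCoeff fη δXη δYη ζ ≠ 0 → δXη ζ = δYη (fη ζ) := fun ζ h => by
    by_contra hh
    exact h (if_neg hh)
  -- the left hand side
  have hL : Cyc.spFun b (genericPoint ↥(Spec (CommRingCat.of R))) (IsLocalRing.closedPoint R) δYη δYs r ⇑(AlgebraicCycle.map fη δXη δYη α) y =
      ∑ ζ ∈ S, α ζ * ((AlgebraicCycle.mapCoeff fη δXη δYη ζ : ℤ) * spDiv b ϖ (fη ζ) q) := by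
    have hfib : ∀ z, AlgebraicCycle.map fη δXη δYη α z ≠ 0 → b.fiberι (genericPoint ↥(Spec (CommRingCat.of R))) z ⤳ q →
        ∃ ζ ∈ S, fη ζ = z ∧ δYη z = r := by
      intro z hz hsp
      rw [map_apply_eq_sum fη δXη δYη α z (finite_fibre_support fη α z).toFinset
        (fun x h1 h2 => (Set.Finite.mem_toFinset _).2 ⟨h1, h2⟩)] at hz
      obtain ⟨ζ, hζ, hne⟩ := Finset.exists_ne_zero_of_sum_ne_zero hz
      obtain ⟨h1, h2⟩ := mul_ne_zero_iff.1 hne
      obtain ⟨-, rfl⟩ := Finset.mem_filter.1 hζ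
      have hS : ζ ∈ S := hmem ζ h1 (by rw [cη]; exact hsp)
      exact ⟨ζ, hS, rfl, (hcoeff ζ (by exact_mod_cast h2)).symm.trans (hSα ζ hS)⟩
    let T := (S.image fη).filter fun z => b.fiberι (genericPoint ↥(Spec (CommRingCat.of R))) z ⤳ q
    rw [spFun_eq_sum b hϖ hϖ0 δYη δYs hYη hYs r _ y hy T ?_ ?_]
    rotate_left
    · intro z _ hsp hne
      obtain ⟨ζ, hζ, rfl, -⟩ := hfib z hne hsp
      exact Finset.mem_filter.2 ⟨Finset.mem_image_of_mem _ hζ, hsp⟩
    · intro z hz hne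
      obtain ⟨_, _, -, h⟩ := hfib z hne (Finset.mem_filter.1 hz).2
      exact h
    rw [← Finset.sum_fiberwise_of_maps_to (g := fη) (t := S.image fη) fun x hx => Finset.mem_image_of_mem fη hx,
      ← Finset.sum_filter_of_ne (s := S.image fη) (p := fun z => b.fiberι (genericPoint ↥(Spec (CommRingCat.of R))) z ⤳ q) ?_]
    · refine Finset.sum_congr rfl fun z hz => ?_
      rw [map_apply_eq_sum fη δXη δYη α z S (fun ζ h1 h2 => hmem ζ h2
        (by rw [cη, h1]; exact (Finset.mem_filter.1 hz).2)), Finset.sum_mul]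
      refine Finset.sum_congr rfl fun ζ hζ => ?_
      rw [(Finset.mem_filter.1 hζ).2, mul_assoc]
    · intro z _ hne
      obtain ⟨ζ, hζ, hne⟩ := Finset.exists_ne_zero_of_sum_ne_zero hne
      rw [← (Finset.mem_filter.1 hζ).2]
      by_contra hh
      exact hne (by rw [show spDiv b ϖ (fη ζ) q = 0 from dif_neg fun h => hh h.1, mul_zero, mul_zero])
  -- the cycles of the uniformiser
  have hdX := isDimFun_dTot a
  have hdY := isDimFun_dTot b
  have hf := dTot_deltaCompat a b f hab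
  choose D hD using fun ζ : ↥(a.fiber (genericPoint ↥(Spec (CommRingCat.of R)))) =>
    exists_cycle_finsum_divFun hdX (fun _ : PUnit.{u + 1} => a.fiberι (genericPoint ↥(Spec (CommRingCat.of R))) ζ)
      (fun _ => gAt a ϖ (a.fiberι (genericPoint ↥(Spec (CommRingCat.of R))) ζ)) (fun _ => gAt_ne_zero a hϖ hϖ0 (apply_fiberι a _ ζ))
      (fun x => ⟨Set.univ, isOpen_univ, trivial, Set.toFinite _⟩)
  have hD' : ∀ ζ, ⇑(D ζ) = spDiv a ϖ ζ := fun ζ => funext fun x => (hD ζ x).trans (finsum_unique _)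
  let Q : Finset ↥(a.fiber (IsLocalRing.closedPoint R)) := (finite_fibre_support fs β y).toFinset ∪
    S.biUnion fun ζ => ((finite_fibre_support f (D ζ) q).preimage
      (f := a.fiberι (IsLocalRing.closedPoint R)) (a.fiberι (IsLocalRing.closedPoint R)).isEmbedding.injective.injOn).toFinset
  have hkey : ∀ ζ ∈ S, ∑ x ∈ Q with fs x = y,
      spDiv a ϖ ζ (a.fiberι (IsLocalRing.closedPoint R) x) * (AlgebraicCycle.mapCoeff fs δXs δYs x : ℤ) =
      (AlgebraicCycle.mapCoeff fη δXη δYη ζ : ℤ) * spDiv b ϖ (fη ζ) q := by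
    intro ζ hζ
    have e : AlgebraicCycle.map f (dTot a) (dTot b) (D ζ) q = ∑ x ∈ Q with fs x = y,
        spDiv a ϖ ζ (a.fiberι (IsLocalRing.closedPoint R) x) * (AlgebraicCycle.mapCoeff fs δXs δYs x : ℤ) := by
      rw [FlatBC.map_apply_eq_sum' f (dTot a) (dTot b) (D ζ) q ((Q.filter fun x => fs x = y).image (a.fiberι (IsLocalRing.closedPoint R))) ?_ ?_,
        Finset.sum_image fun _ _ _ _ h => (a.fiberι (IsLocalRing.closedPoint R)).isEmbedding.injective h]
      · refine Finset.sum_congr rfl fun x _ => ?_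
        rw [hD', hcs]
      · intro p hp
        obtain ⟨x, hx, rfl⟩ := Finset.mem_image.1 hp
        rw [cs, (Finset.mem_filter.1 hx).2]
      · intro p hp hne
        have hps : a p = (IsLocalRing.closedPoint R) := by
          rw [hab]
          show b (f p) = _
          rw [hp]
          exact apply_fiberι b _ y
        obtain ⟨x, rfl⟩ := exists_fibre_preimage a p _ hps
        refine Finset.mem_image_of_mem _ (Finset.mem_filter.2 ⟨?_, ?_⟩)
        · exact Finset.mem_union_right _ (Finset.mem_biUnion.2 ⟨ζ, hζ,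
            (Set.Finite.mem_toFinset _).2 ⟨hp, left_ne_zero_of_mul hne⟩⟩)
        · rw [cs] at hp
          exact (b.fiberι (IsLocalRing.closedPoint R)).isEmbedding.injective hp
    rw [← e]
    have hg := gAt_ne_zero a hϖ hϖ0 (apply_fiberι a _ ζ)
    have hqk : dTot b q = r := by
      rw [hqdef, dTot_fiberι b _ δYs hYs, hy]
      simp [dTrait]
    have hζk : dTot a (a.fiberι (genericPoint ↥(Spec (CommRingCat.of R))) ζ) = r + 1 := by
      rw [dTot_fiberι a _ δXη hXη, hSα ζ hζ, show dTrait ((genericPoint ↥(Spec (CommRingCat.of R))) : ↥(Spec (CommRingCat.of R))) = 1 from if_neg generic_ne_closed]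
      ring
    by_cases hd : dTot a (a.fiberι (genericPoint ↥(Spec (CommRingCat.of R))) ζ) = dTot b (f (a.fiberι (genericPoint ↥(Spec (CommRingCat.of R))) ζ))
    · have hgY : gAt b ϖ (f (a.fiberι (genericPoint ↥(Spec (CommRingCat.of R))) ζ)) ≠ 0 :=
        gAt_ne_zero b hϖ hϖ0 (by rw [cη]; exact apply_fiberι b _ _)
      rw [map_divFun_eq' f hdX hdY hf _ hd hg (D ζ) (hD' ζ) q, ← gAt_comp a b f hab ϖ,
        normGen_residueFieldMap, divFun_pow hdY hgY, hcη, AlgebraicCycle.mapCoeff, if_pos hd]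
      congr 1
      rw [spDiv]
      have : ∀ p p' : Y, p = p' → Cyc.divFun (dTot b) p (gAt b ϖ p) q = Cyc.divFun (dTot b) p' (gAt b ϖ p') q := by
        rintro p _ rfl
        rfl
      exact this _ _ (cη ζ)
    · rw [hcη, AlgebraicCycle.mapCoeff, if_neg hd, Nat.cast_zero, zero_mul,
        map_apply_eq_sum f _ _ (D ζ) q (finite_fibre_support f (D ζ) q).toFinset
          (fun x h1 h2 => (Set.Finite.mem_toFinset _).2 ⟨h1, h2⟩), Finset.sum_eq_zero fun p hp => ?_]
      obtain ⟨hp1, hp2⟩ := Finset.mem_filter.1 hp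
      exfalso
      have hne : D ζ p ≠ 0 := ((Set.Finite.mem_toFinset _).1 hp1).2
      rw [hD'] at hne
      have hsp : a.fiberι (genericPoint ↥(Spec (CommRingCat.of R))) ζ ⤳ p := by
        by_contra hh
        exact hne (dif_neg fun h => hh h.1)
      have hsp' : f (a.fiberι (genericPoint ↥(Spec (CommRingCat.of R))) ζ) ⤳ q := hp2 ▸ hsp.map f.continuous
      have hle := le_delta f hf (a.fiberι (genericPoint ↥(Spec (CommRingCat.of R))) ζ)
      have hneq : f (a.fiberι (genericPoint ↥(Spec (CommRingCat.of R))) ζ) ≠ q := fun h => generic_ne_closed (R := R) <| by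
        have e1 := congrArg b h
        rwa [cη, apply_fiberι b, apply_fiberι b] at e1
      have hlt := (hdY _ _ hsp' hneq).1
      omega
  rw [hL, map_apply_eq_sum fs δXs δYs β y Q
    (fun x h1 h2 => Finset.mem_union_left _ ((Set.Finite.mem_toFinset _).2 ⟨h1, h2⟩))]
  rw [Finset.sum_congr rfl fun ζ hζ => by rw [← hkey ζ hζ, Finset.mul_sum], Finset.sum_comm]
  refine Finset.sum_congr rfl fun x hx => ?_
  simp_rw [← mul_assoc]
  rw [← Finset.sum_mul]
  have hxy := (Finset.mem_filter.1 hx).2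
  by_cases hc : δXs x = r
  · congr 1
    rw [hβ, spFun_eq_sum a hϖ hϖ0 δXη δXs hXη hXs r _ x hc S ?_ (fun ζ hζ _ => hSα ζ hζ)]
    intro ζ _ hsp hne
    refine hmem ζ hne ?_
    have := hsp.map f.continuous
    rwa [cs, hxy] at this
  · have : AlgebraicCycle.mapCoeff fs δXs δYs x = 0 := if_neg fun h => hc (h.trans (hxy.symm ▸ hy))
    rw [this, Nat.cast_zero, mul_zero, mul_zero]

end Groth.Agent.SpFlat88
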